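import Mathlib
import Cfsg.Prelude.Def_LocalEven
import Cfsg.Prelude.Def_EvenType
import Cfsg.Prelude.Def_Amalgam
import Cfsg.Agent.Lib.Helper33.Torus.Defs2
import Cfsg.Agent.Lib.Helper55.Cores

/-!
# Project TORUS part 2: the frozen statement S2784 from the packages (helper48)

`[F2784]`: CoreInv + U3NT + U3El + U3Ord + U3Cen give the statement of S2784
(`PSU₃(q)`, `q ≥ 4` even).
-/

set_option autoImplicit false
set_option linter.style.haveILetI false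

namespace Cfsg.Agent.Lib.Helper48.Torus

open Cfsg.Agent.Lib.Helper33.Torus

universe u v

theorem isPGroup_two_of_elemAb {G : Type u} [Group G] {V : Subgroup G}
    (hV : Cfsg.IsElementaryAbelian 2 V) : IsPGroup 2 V := by
  intro v
  refine ⟨1, ?_⟩
  rw [pow_one]
  apply Subtype.ext
  simpa using hV.2 v.1 v.2

/-- an even `q` with `q ^ 2` the order of a finite field is a power of `2`. -/
theorem even_field_card {F : Type v} [Field F] [Fintype F] (q : ℕ) (hq : Even q)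
    (hF : Fintype.card F = q ^ 2) : ∃ n : ℕ, q = 2 ^ n := by
  obtain ⟨p, hchar⟩ := CharP.exists F
  haveI := hchar
  obtain ⟨m, hp, hcard⟩ := FiniteField.card F p
  rw [hF] at hcard
  have hp2 : p = 2 := by
    have h2 : 2 ∣ q ^ 2 := dvd_pow (even_iff_two_dvd.mp hq) (by norm_num)
    rw [hcard] at h2
    have h3 : 2 ∣ p := Nat.Prime.dvd_of_dvd_pow Nat.prime_two h2
    exact ((Nat.prime_dvd_prime_iff_eq Nat.prime_two hp).mp h3).symm
  rw [hp2] at hcard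
  have hdvd : q ∣ 2 ^ (m : ℕ) := by
    rw [← hcard]
    exact dvd_pow_self q (by norm_num)
  obtain ⟨k, -, hk⟩ := (Nat.dvd_prime_pow Nat.prime_two).mp hdvd
  exact ⟨k, hk⟩

/-- [F2784] the statement of S2784 from the packages. -/
theorem s2784_of (hCI : PkgCoreInv.{u, v}) (hNT : PkgU3NT) (hEl : PkgU3El.{v})
    (hOrd : PkgU3Ord.{v}) (hCen : PkgU3Cen.{v})
    {G : Type u} [Group G] [Finite G] (V H : Subgroup G)
    (hV : Cfsg.IsElementaryAbelian 2 V) (hHV : H ≤ Subgroup.normalizer (V : Set G))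
    (hf : H ⊓ Subgroup.centralizer (V : Set G) = ⊥) (hgen : Cfsg.pElementClosure 2 H = H)
    (X : Subgroup ↥H) (hX : Cfsg.IsStronglyPEmbedded 2 X) (hr : Cfsg.PRankAtLeast 2 2 ↥H)
    {F : Type v} [Field F] [Fintype F] (q : ℕ) (hq : Even q) (hq4 : 4 ≤ q)
    (hF : Fintype.card F = q ^ 2)
    (hiso : Nonempty (↥H ⧸ Cfsg.pPrimeCore 2 ↥H ≃* Cfsg.PSU 3 F q))
    (S : Sylow 2 ↥H) (T : Subgroup G) (hT : T = ((S : Subgroup ↥H).map H.subtype))
    (A : Subgroup G) (hA : A ≤ T ⊓ Subgroup.centralizer (T : Set G)) (hA4 : Nat.card A = 4) :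
    q ^ 6 ≤ Nat.card V ∧
      q ^ 2 ≤ ((V ⊓ Subgroup.centralizer ((A : Subgroup G) : Set G))).relIndex V ∧
      ∀ s ∈ T ⊓ Subgroup.centralizer (T : Set G), s ≠ 1 →
        q ^ 3 ≤ (((V ⊓ Subgroup.centralizer ({s} : Set G))).relIndex V) ^ 2 := by
  obtain ⟨n, rfl⟩ := even_field_card q hq hF
  have hn2 : 2 ≤ n := by
    by_contra hcon
    push Not at hcon
    have h1 : 2 ^ n ≤ 2 ^ 1 := Nat.pow_le_pow_right (by norm_num) (by omega)
    omega
  have hn1 : 1 ≤ n := by omega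
  obtain ⟨r, e, hrp, hr2, hr3, he, hdvdM, hprim⟩ := hNT n hn2
  have hrodd : Odd (r ^ e) := (hrp.odd_of_ne_two hr2).pow
  have hd1 : 1 < r ^ e := Nat.one_lt_pow (by omega) hrp.one_lt
  obtain ⟨α, hα, hαC⟩ := hOrd F n hn1 hF (r ^ e) hrodd hd1 hdvdM
  obtain ⟨t₁, t₂, t₃, h1sq, h2sq, h3sq, h1c, h2c, h3c, hpoly⟩ := hEl F n hn1 hF α hα
  obtain ⟨φ⟩ := hiso
  let mkZ : ↥(Cfsg.SU 3 F (2 ^ n)) →* Cfsg.PSU 3 F (2 ^ n) :=
    QuotientGroup.mk' (Subgroup.center ↥(Cfsg.SU 3 F (2 ^ n)))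
  let π : ↥H →* Cfsg.PSU 3 F (2 ^ n) :=
    φ.toMonoidHom.comp (QuotientGroup.mk' (Cfsg.pPrimeCore 2 ↥H))
  have hπ : Function.Surjective π := φ.surjective.comp (QuotientGroup.mk'_surjective _)
  have hker : π.ker = Cfsg.pPrimeCore 2 ↥H := by
    ext x
    rw [MonoidHom.mem_ker]
    show φ ((QuotientGroup.mk' (Cfsg.pPrimeCore 2 ↥H)) x) = 1 ↔ _
    rw [MulEquiv.map_eq_one_iff, QuotientGroup.mk'_apply, QuotientGroup.eq_one_iff]
  have hcop : (Nat.card π.ker).Coprime 2 := by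
    rw [hker]
    exact Cfsg.Agent.Lib.Helper55.pPrimeCore_coprime 2 ↥H
  have hmk1 : ∀ t : ↥(Cfsg.SU 3 F (2 ^ n)), t ^ 2 = 1 →
      t ∉ Subgroup.center ↥(Cfsg.SU 3 F (2 ^ n)) → mkZ t ^ 2 = 1 ∧ mkZ t ≠ 1 := by
    intro t ht2 htc
    refine ⟨by rw [← map_pow, ht2, map_one], ?_⟩
    intro h
    apply htc
    rwa [QuotientGroup.mk'_apply, QuotientGroup.eq_one_iff] at h
  have hl : ∀ x ∈ [mkZ t₁, mkZ t₂, mkZ t₃], x ^ 2 = 1 ∧ x ≠ 1 := by
    intro x hx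
    simp only [List.mem_cons, List.not_mem_nil, or_false] at hx
    rcases hx with rfl | rfl | rfl
    · exact hmk1 t₁ h1sq h1c
    · exact hmk1 t₂ h2sq h2c
    · exact hmk1 t₃ h3sq h3c
  have hprod : [mkZ t₁, mkZ t₂, mkZ t₃].prod = mkZ (t₁ * t₂ * t₃) := by
    simp [mul_assoc]
  haveI : Finite (Cfsg.PSU 3 F (2 ^ n)) := inferInstance
  have hord : r ^ e ∣ orderOf [mkZ t₁, mkZ t₂, mkZ t₃].prod := by
    rw [hprod]
    set c := t₁ * t₂ * t₃ with hc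
    set k := orderOf (mkZ c) with hk
    have h1 : mkZ (c ^ k) = 1 := by rw [map_pow, hk, pow_orderOf_eq_one]
    have h2 : c ^ k ∈ Subgroup.center ↥(Cfsg.SU 3 F (2 ^ n)) := by
      rwa [QuotientGroup.mk'_apply, QuotientGroup.eq_one_iff] at h1
    have h3 : c ^ (k * 3) = 1 := by rw [pow_mul]; exact hCen F n hn1 hF _ h2
    have h4 : (((c : ↥(Cfsg.SU 3 F (2 ^ n))) : Matrix.SpecialLinearGroup (Fin 3) F) :
        Matrix (Fin 3) (Fin 3) F) ^ (k * 3) = 1 := by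
      have := congrArg (fun y : ↥(Cfsg.SU 3 F (2 ^ n)) =>
        ((y : Matrix.SpecialLinearGroup (Fin 3) F) : Matrix (Fin 3) (Fin 3) F)) h3
      simpa using this
    have h5 : r ^ e ∣ k * 3 := hαC _ hpoly _ h4
    have hcop3 : Nat.Coprime (r ^ e) 3 := by
      apply Nat.Coprime.pow_left
      exact (Nat.coprime_primes hrp Nat.prime_three).mpr hr3
    exact hcop3.dvd_of_dvd_mul_right h5
  have hVp : IsPGroup 2 V := isPGroup_two_of_elemAb hV
  -- the bounds for the single elements of `T`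
  have hb : ∀ s ∈ T, s ≠ 1 →
      (2 ^ n) ^ 2 ≤ (V ⊓ Subgroup.centralizer ({s} : Set G)).relIndex V ∧
        (2 ^ n) ^ 6 ≤ Nat.card V := by
    intro s hs hs1
    rw [hT] at hs
    obtain ⟨sH, hsH, rfl⟩ := Subgroup.mem_map.mp hs
    have hpow : ∃ j : ℕ, sH ^ (2 ^ j) = 1 := by
      obtain ⟨j, hj⟩ := S.isPGroup' ⟨sH, hsH⟩
      refine ⟨j, ?_⟩
      have := congrArg (fun y : ↥(S : Subgroup ↥H) => (y : ↥H)) hj
      simpa using this
    have hsH1 : sH ≠ 1 := by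
      intro h
      apply hs1
      rw [h, map_one]
    obtain ⟨b1, b2⟩ := hCI V H hVp hHV hf X hX (Cfsg.PSU 3 F (2 ^ n)) π hπ hcop
      [mkZ t₁, mkZ t₂, mkZ t₃] hl r e (6 * n) hrp hr2 he hord hprim sH hsH1 hpow
    have e1 : (2 : ℕ) ^ (6 * n) = ((2 ^ n) ^ 2) ^ 3 := by
      rw [← pow_mul, ← pow_mul]; congr 1; ring
    have e2 : (2 : ℕ) ^ (6 * n) = (2 ^ n) ^ 6 := by
      rw [← pow_mul]; congr 1; ring
    refine ⟨?_, e2 ▸ b2⟩
    have b1' : ((2 ^ n) ^ 2) ^ 3 ≤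
        ((V ⊓ Subgroup.centralizer ({(H.subtype sH : G)} : Set G)).relIndex V) ^ 3 := by
      rw [← e1]
      exact b1
    exact (Nat.pow_le_pow_iff_left (by norm_num)).mp b1'
  have hAne : ∃ a ∈ A, a ≠ 1 := by
    by_contra hcon
    push Not at hcon
    have hbot : A = ⊥ := (Subgroup.eq_bot_iff_forall A).mpr hcon
    rw [hbot] at hA4
    simp at hA4
  obtain ⟨a, haA, ha1⟩ := hAne
  have haT : a ∈ T := (Subgroup.mem_inf.mp (hA haA)).1
  obtain ⟨ba1, ba2⟩ := hb a haT ha1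
  refine ⟨ba2, ?_, ?_⟩
  · have hle : V ⊓ Subgroup.centralizer ((A : Subgroup G) : Set G) ≤
        V ⊓ Subgroup.centralizer ({a} : Set G) :=
      inf_le_inf_left V (Subgroup.centralizer_le (Set.singleton_subset_iff.mpr haA))
    have hdvd := Subgroup.relIndex_dvd_of_le_left V hle
    have hne : (V ⊓ Subgroup.centralizer ((A : Subgroup G) : Set G)).relIndex V ≠ 0 :=
      Subgroup.index_ne_zero_of_finite
    exact ba1.trans (Nat.le_of_dvd (Nat.pos_of_ne_zero hne) hdvd)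
  · intro s hs hs1
    obtain ⟨bs1, -⟩ := hb s (Subgroup.mem_inf.mp hs).1 hs1
    have hpos : 1 ≤ 2 ^ n := Nat.one_le_two_pow
    calc (2 ^ n) ^ 3 ≤ (2 ^ n) ^ 4 := Nat.pow_le_pow_right hpos (by norm_num)
      _ = ((2 ^ n) ^ 2) ^ 2 := by ring
      _ ≤ ((V ⊓ Subgroup.centralizer ({s} : Set G)).relIndex V) ^ 2 :=
          Nat.pow_le_pow_left bs1 2

end Cfsg.Agent.Lib.Helper48.Torus
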